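import Groth.Prelude.Def_CechTot
import Groth.Agent.Lib.Cech.Compare
import Mathlib.Algebra.Homology.HomologicalComplexAbelian
import Mathlib.Algebra.Homology.HomotopyCategory.MappingCone
import Mathlib.Algebra.Homology.HomotopyCategory.ShortExact
import Mathlib.Algebra.Homology.HomotopyCategory.Plus
import Mathlib.Algebra.Homology.DerivedCategory.Basic
import Mathlib.CategoryTheory.Abelian.GrothendieckCategory.EnoughInjectives

/-!
# The Čech double complex preserves quasi-isomorphisms between complexes of acyclic sheaves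
-/

set_option autoImplicit false
set_option linter.style.haveILetI false
set_option linter.unusedSectionVars false

universe v v' u u' w

open CategoryTheory Limits Opposite TopologicalSpace HomologicalComplex
open Groth.Agent.Lib.Cech Groth.Agent.Lib.Cech.Complex

namespace Groth.Agent.Lib.CechHyper28.Acyclic

variable {X : TopCat.{u}}

/-- Acyclicity on an open. -/
def Acyc (W : Opens X) (F : CohTop.Ab X) : Prop := ∀ q : ℕ, Subsingleton (CohTop.HU F (q + 1) W)

section Ext

variable {A : Type u'} [Category.{v'} A] [Abelian A] [HasExt.{w} A] {P : A} {n : ℕ}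

lemma ext_zero_of_isZero {F : A} (hF : IsZero F) (x : Abelian.Ext P F n) : x = 0 := by
  rw [← Abelian.Ext.comp_mk₀_id x, hF.eq_of_src (𝟙 F) 0, Abelian.Ext.mk₀_zero, Abelian.Ext.comp_zero]

lemma ext_zero_of_retract {F F' : A} (i : F ⟶ F') (r : F' ⟶ F) (hir : i ≫ r = 𝟙 F)
    (h : ∀ y : Abelian.Ext P F' n, y = 0) (x : Abelian.Ext P F n) : x = 0 := by
  rw [← Abelian.Ext.comp_mk₀_id x, ← hir, ← Abelian.Ext.mk₀_comp_mk₀,
    ← Abelian.Ext.comp_assoc_of_second_deg_zero, h (x.comp (Abelian.Ext.mk₀ i) (add_zero _)),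
    Abelian.Ext.zero_comp]

lemma ext_zero_biprod {F G : A} (hF : ∀ y : Abelian.Ext P F n, y = 0)
    (hG : ∀ y : Abelian.Ext P G n, y = 0) (x : Abelian.Ext P (F ⊞ G) n) : x = 0 := by
  rw [← Abelian.Ext.comp_mk₀_id x, ← biprod.total, Abelian.Ext.mk₀_add, Abelian.Ext.comp_add,
    ← Abelian.Ext.mk₀_comp_mk₀, ← Abelian.Ext.mk₀_comp_mk₀,
    ← Abelian.Ext.comp_assoc_of_second_deg_zero, ← Abelian.Ext.comp_assoc_of_second_deg_zero,
    hF (x.comp (Abelian.Ext.mk₀ biprod.fst) (add_zero _)),
    hG (x.comp (Abelian.Ext.mk₀ biprod.snd) (add_zero _)),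
    Abelian.Ext.zero_comp, Abelian.Ext.zero_comp, add_zero]

end Ext

lemma acyc_of_isZero (W : Opens X) {F : CohTop.Ab X} (hF : IsZero F) : Acyc W F := fun q =>
  subsingleton_of_forall_eq 0 fun x => ext_zero_of_isZero hF x

lemma acyc_injective (W : Opens X) (F : CohTop.Ab X) [Injective F] : Acyc W F := fun q =>
  subsingleton_of_forall_eq 0 fun x => Abelian.Ext.eq_zero_of_injective x

lemma acyc_X₃ (W : Opens X) {S : ShortComplex (CohTop.Ab X)} (hS : S.ShortExact)
    (h₁ : Acyc W S.X₁) (h₂ : Acyc W S.X₂) : Acyc W S.X₃ := fun q => by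
  refine subsingleton_of_forall_eq 0 fun x => ?_
  obtain ⟨x₂, rfl⟩ := Abelian.Ext.covariant_sequence_exact₃
    (CohCx.freeSheaf (Opens.grothendieckTopology X) W) hS x (n₁ := q + 2) rfl
    (@Subsingleton.elim (CohTop.HU S.X₁ (q + 2) W) (h₁ (q + 1)) _ _)
  have h0 : x₂ = 0 := @Subsingleton.elim (CohTop.HU S.X₂ (q + 1) W) (h₂ q) x₂ (0 : Abelian.Ext _ _ _)
  rw [h0, Abelian.Ext.zero_comp]
  rfl

lemma acyc_biprod (W : Opens X) {F G : CohTop.Ab X} (hF : Acyc W F) (hG : Acyc W G) :
    Acyc W (F ⊞ G) := fun q => subsingleton_of_forall_eq 0 fun x =>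
  ext_zero_biprod (fun _ => @Subsingleton.elim (CohTop.HU F (q + 1) W) (hF q) _ _)
    (fun _ => @Subsingleton.elim (CohTop.HU G (q + 1) W) (hG q) _ _) x

lemma acyc_of_iso (W : Opens X) {F G : CohTop.Ab X} (e : F ≅ G) (hF : Acyc W F) : Acyc W G :=
  fun q => subsingleton_of_forall_eq 0 fun x => ext_zero_of_retract e.inv e.hom e.inv_hom_id
    (fun _ => @Subsingleton.elim (CohTop.HU F (q + 1) W) (hF q) _ _) x

/-- Sections of a bounded below exact complex of acyclic sheaves are exact. -/
theorem sect_exact (W : Opens X) (N : CochainComplex (CohTop.Ab X) ℤ) (a : ℤ) [N.IsStrictlyGE a]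
    (hN : N.Acyclic) (hX : ∀ k, Acyc W (N.X k)) (i : ℤ) (x : (N.X (i + 1)).obj.obj (op W))
    (hx : (N.d (i + 1) (i + 2)).hom.app (op W) x = 0) :
    ∃ y, (N.d i (i + 1)).hom.app (op W) y = x := by
  have hepi : ∀ i : ℤ, Epi (N.toCycles i (i + 1)) := fun i =>
    Preadditive.epi_of_isZero_cokernel' _ (N.homologyIsCokernel i (i + 1) (by simp))
      ((N.exactAt_iff_isZero_homology _).1 (hN _))
  let S : ℤ → ShortComplex (CohTop.Ab X) := fun i =>
    ShortComplex.mk (N.iCycles i) (N.toCycles i (i + 1))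
      (by rw [← cancel_mono (N.iCycles (i + 1)), Category.assoc, HomologicalComplex.toCycles_i,
        HomologicalComplex.iCycles_d, zero_comp])
  have hS : ∀ i, (S i).ShortExact := fun i => by
    haveI := hepi i
    refine ShortComplex.ShortExact.mk' ?_ (inferInstanceAs (Mono (N.iCycles i))) (inferInstanceAs (Epi (N.toCycles i (i + 1))))
    let φ : S i ⟶ ShortComplex.mk (N.iCycles i) (N.d i (i + 1)) (N.iCycles_d i (i + 1)) :=
      { τ₁ := 𝟙 _
        τ₂ := 𝟙 _
        τ₃ := N.iCycles (i + 1)
        comm₁₂ := (Category.id_comp _).trans (Category.comp_id _).symm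
        comm₂₃ := (Category.id_comp _).trans (N.toCycles_i i (i + 1)).symm }
    haveI : Epi φ.τ₁ := inferInstanceAs (Epi (𝟙 _))
    haveI : IsIso φ.τ₂ := inferInstanceAs (IsIso (𝟙 _))
    haveI : Mono φ.τ₃ := inferInstanceAs (Mono (N.iCycles (i + 1)))
    exact (ShortComplex.exact_iff_of_epi_of_isIso_of_mono φ).2
      (ShortComplex.exact_of_f_is_kernel _ (N.cyclesIsKernel i (i + 1) (by simp)))
  have hlow : ∀ j, j < a → Acyc W (N.cycles j) := fun j hj =>
    acyc_of_isZero W (IsZero.of_mono (N.iCycles _) (CochainComplex.isZero_of_isStrictlyGE N a _ hj))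
  have hcyc : ∀ m : ℕ, Acyc W (N.cycles (a - 1 + m)) := fun m => by
    induction m with
    | zero => exact hlow _ (by omega)
    | succ m ih =>
      rw [show a - 1 + ((m + 1 : ℕ) : ℤ) = a - 1 + (m : ℤ) + 1 by omega]
      exact acyc_X₃ W (hS _) ih (hX _)
  have hcyc' : ∀ j, Acyc W (N.cycles j) := fun j => by
    by_cases hj : j < a
    · exact hlow j hj
    · rw [show j = a - 1 + ((j - a + 1).toNat : ℤ) by omega]
      exact hcyc _
  have hK : (ShortComplex.mk (N.iCycles (i + 1)) (N.d (i + 1) (i + 2))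
      (N.iCycles_d _ _)).Exact :=
    ShortComplex.exact_of_f_is_kernel _ (N.cyclesIsKernel (i + 1) (i + 2) (by simp; omega))
  obtain ⟨z, hz⟩ : ∃ z, (N.iCycles (i + 1)).hom.app (op W) z = x :=
    TopCat.Sheaf.sections_exact_of_left_exact hK
      (inferInstanceAs (Mono (N.iCycles (i + 1)))) x hx
  haveI : Subsingleton (CohTop.HU (S i).X₁ 1 W) := hcyc' i 0
  obtain ⟨y, hy⟩ := Sections.app_surjective (hS i) W z
  refine ⟨y, ?_⟩
  rw [← hz, ← hy]
  exact (ConcreteCategory.congr_hom
    (congrArg (fun φ => φ.hom.app (op W)) (N.toCycles_i i (i + 1))) y).symm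

/-- A criterion for quasi-isomorphisms through mapping cones. -/
lemma quasiIso_iff_acyclic_mappingCone {A : Type u'} [Category.{v'} A] [Abelian A]
    {K L : CochainComplex A ℤ} (f : K ⟶ L) :
    QuasiIso f ↔ (CochainComplex.mappingCone f).Acyclic := by
  rw [← HomotopyCategory.quotient_obj_mem_subcategoryAcyclic_iff_acyclic,
    ← HomologicalComplex.mem_quasiIso_iff, ← HomotopyCategory.quotient_map_mem_quasiIso_iff,
    HomotopyCategory.quasiIso_eq_trW_subcategoryAcyclic]
  exact (HomotopyCategory.subcategoryAcyclic A).trW_iff_of_distinguished _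
    (HomotopyCategory.mappingCone_triangleh_distinguished f)

/-- An additive functor exact on the mapping cone preserves a quasi-isomorphism. -/
lemma quasiIso_map_of_exact {A : Type u'} [Category.{v'} A] [Abelian A] {B : Type w} [Category.{v} B]
    [Abelian B] (F : A ⥤ B) [F.Additive] {K L : CochainComplex A ℤ} (f : K ⟶ L)
    (h : ∀ k, (((CochainComplex.mappingCone f).sc k).map F).Exact) :
    QuasiIso ((F.mapHomologicalComplex (ComplexShape.up ℤ)).map f) := by
  refine (quasiIso_iff_acyclic_mappingCone _).2 fun k => ?_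
  refine HomologicalComplex.ExactAt.of_iso ?_
    (CochainComplex.mappingCone.mapHomologicalComplexIso f F)
  exact h k

/-- A morphism of bicomplexes is a quasi-isomorphism if its evaluations are. -/
lemma quasiIso_of_eval {A : Type u'} [Category.{v'} A] [Abelian A] {I : Type*} {c : ComplexShape I}
    {K L : CochainComplex (HomologicalComplex A c) ℤ} (φ : K ⟶ L)
    (h : ∀ q, QuasiIso (((HomologicalComplex.eval A c q).mapHomologicalComplex
      (ComplexShape.up ℤ)).map φ)) : QuasiIso φ := by
  refine (quasiIso_iff_acyclic_mappingCone _).2 fun k => ?_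
  refine HomologicalComplex.exact_of_degreewise_exact _ fun q => ?_
  haveI := h q
  exact ((quasiIso_iff_acyclic_mappingCone _).1 inferInstance k).of_iso
    (CochainComplex.mappingCone.mapHomologicalComplexIso φ (HomologicalComplex.eval A c q)).symm

variable {ι : Type u} (U : ι → Opens X)

/-- The Čech complex of a sheaf, extended to `ℤ`. -/
noncomputable abbrev G : CohTop.Ab X ⥤ CochainComplex AddCommGrpCat.{u} ℤ :=
  sheafToPresheaf (Opens.grothendieckTopology X) AddCommGrpCat.{u} ⋙
    cechComplexFunctor (A := AddCommGrpCat.{u}) U ⋙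
      ComplexShape.embeddingUpNat.extendFunctor AddCommGrpCat.{u}

instance : (cechComplexFunctor (A := AddCommGrpCat.{u}) U).Additive where
  map_add {P Q φ ψ} := by
    ext q x
    apply (Complex.equiv U Q q).injective
    rw [Complex.equiv_naturality]
    show Complex.map (φ + ψ) q (Complex.equiv U P q x) = _
    erw [map_add, Complex.equiv_naturality, Complex.equiv_naturality]
    rfl

/-- The Čech functor maps sequences exact on the intersections to exact sequences. -/
theorem exact_map_G {S : ShortComplex (CohTop.Ab X)}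
    (h : ∀ (p : ℕ) (i : Fin (p + 1) → ι) (x : S.X₂.obj.obj (op (inter U i))),
      S.g.hom.app _ x = 0 → ∃ y, S.f.hom.app _ y = x) :
    (S.map (G U)).Exact := by
  refine HomologicalComplex.exact_of_degreewise_exact _ fun q => ?_
  by_cases hq : ∃ p : ℕ, ComplexShape.embeddingUpNat.f p = q
  · obtain ⟨p, hp⟩ := hq
    let F := sheafToPresheaf (Opens.grothendieckTopology X) AddCommGrpCat.{u} ⋙
      cechComplexFunctor (A := AddCommGrpCat.{u}) U ⋙ HomologicalComplex.eval _ _ p
    have e : G U ⋙ HomologicalComplex.eval AddCommGrpCat.{u} (ComplexShape.up ℤ) q ≅ F :=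
      NatIso.ofComponents (fun M => ((cechComplexFunctor (A := AddCommGrpCat.{u}) U).obj M.obj).extendXIso
        ComplexShape.embeddingUpNat hp) fun {M N} φ => by
          refine (congrArg (· ≫ _) (HomologicalComplex.extendMap_f
            ((cechComplexFunctor (A := AddCommGrpCat.{u}) U).map φ.hom) ComplexShape.embeddingUpNat hp)).trans ?_
          refine (Category.assoc _ _ _).trans (congrArg (_ ≫ ·) ?_)
          exact (Category.assoc _ _ _).trans
            ((congrArg (_ ≫ ·) (Iso.inv_hom_id _)).trans (Category.comp_id _))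
    refine ShortComplex.exact_of_iso (S.mapNatIso e).symm ?_
    rw [ShortComplex.ab_exact_iff]
    intro x hx
    have h0 : Complex.map S.g.hom p (equiv U S.X₂.obj p x) = 0 :=
      (equiv_naturality S.g.hom p x).symm.trans
        ((congrArg (equiv U S.X₃.obj p) hx).trans (map_zero _))
    choose t ht using fun i => h p i (equiv U S.X₂.obj p x i) (congr_fun h0 i)
    obtain ⟨y, hy⟩ := (equiv U S.X₁.obj p).surjective t
    refine ⟨y, (equiv U S.X₂.obj p).injective ?_⟩
    refine (equiv_naturality S.f.hom p y).trans (funext fun i => ?_)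
    rw [hy]; exact ht i
  · exact ShortComplex.exact_of_isZero_X₂ _
      (HomologicalComplex.isZero_extend_X _ _ _ fun p hp => hq ⟨p, hp⟩)

/-- A quasi-isomorphism of bounded below complexes of sheaves acyclic on the intersections induces a
quasi-isomorphism of Čech double complexes. -/
theorem quasiIso_map_G {K L : CochainComplex (CohTop.Ab X) ℤ} (g : K ⟶ L) [QuasiIso g] (a : ℤ)
    [K.IsStrictlyGE a] [L.IsStrictlyGE a]
    (hK : ∀ (p : ℕ) (i : Fin (p + 1) → ι) k, Acyc (inter U i) (K.X k))
    (hL : ∀ (p : ℕ) (i : Fin (p + 1) → ι) k, Acyc (inter U i) (L.X k)) :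
    QuasiIso (((G U).mapHomologicalComplex (ComplexShape.up ℤ)).map g) := by
  haveI := CochainComplex.isStrictlyGE_mappingCone g a a (a - 1)
  refine quasiIso_map_of_exact _ g fun k => ?_
  obtain ⟨j, rfl⟩ : ∃ j : ℤ, k = j + 1 := ⟨k - 1, by omega⟩
  refine ShortComplex.exact_of_iso ((G U).mapShortComplex.mapIso
    ((CochainComplex.mappingCone g).isoSc' j (j + 1) (j + 2) ((ComplexShape.up ℤ).prev_eq' rfl)
      ((ComplexShape.up ℤ).next_eq' (by simp; omega)))).symm (exact_map_G U fun p i x hx => ?_)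
  have hC : ∀ k, Acyc (inter U i) ((CochainComplex.mappingCone g).X k) := fun k =>
    acyc_of_iso _ (HomologicalComplex.homotopyCofiber.XIsoBiprod g k (k + 1) rfl).symm
      (acyc_biprod (inter U i) (hK p i (k + 1)) (hL p i k))
  exact sect_exact (inter U i) (CochainComplex.mappingCone g) (a - 1)
    ((quasiIso_iff_acyclic_mappingCone g).1 inferInstance) hC j x hx

end Groth.Agent.Lib.CechHyper28.Acyclic
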