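import Groth.Agent.Lib.CechHyper28.Acyclic
import Groth.Agent.Lib.TotalQIso.Basic
import Groth.Agent.H30.CechHyper.Instance
import Mathlib.Algebra.Homology.TotalComplexSymmetry
import Mathlib.Algebra.Homology.Embedding.ExtendHomology

/-!
# Čech hypercohomology of a bounded below complex of acyclic sheaves
-/

set_option autoImplicit false
set_option linter.style.haveILetI false
set_option linter.unusedSectionVars false

universe u

open CategoryTheory Limits Opposite TopologicalSpace HomologicalComplex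
open Groth.Agent.Lib.Cech Groth.Agent.Lib.Cech.Complex Groth.Agent.Lib.CechHyper28.Acyclic

namespace Groth.Agent.Lib.CechHyper28.Compare

variable {X : TopCat.{u}} {ι : Type u} (U : ι → Opens X)

/-- Global sections. -/
noncomputable abbrev Γ₀ : CohTop.Ab X ⥤ AddCommGrpCat.{u} :=
  sheafToPresheaf (Opens.grothendieckTopology X) AddCommGrpCat.{u} ⋙
    (evaluation (Opens X)ᵒᵖ AddCommGrpCat.{u}).obj (op ⊤)

/-- The augmentation of the Čech complex. -/
noncomputable def ηN : Γ₀ ⋙ CochainComplex.single₀ AddCommGrpCat.{u} ⟶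
    sheafToPresheaf (Opens.grothendieckTopology X) AddCommGrpCat.{u} ⋙
      cechComplexFunctor (A := AddCommGrpCat.{u}) U where
  app F := (CochainComplex.fromSingle₀Equiv _ _).symm ⟨Compare.augX U F.obj, Compare.augX_d U F.obj⟩
  naturality F G φ := by
    have key : φ.hom.app (op ⊤) ≫ Compare.augX U G.obj =
        Compare.augX U F.obj ≫ ((cechComplexFunctor (A := AddCommGrpCat.{u}) U).map φ.hom).f 0 := by
      ext s
      apply (equiv U G.obj 0).injective
      rw [ConcreteCategory.comp_apply, ConcreteCategory.comp_apply, equiv_naturality]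
      erw [AddEquiv.apply_symm_apply, AddEquiv.apply_symm_apply]
      funext i
      exact (res_naturality φ.hom _ s).symm
    apply HomologicalComplex.from_single_hom_ext
    simpa [CochainComplex.fromSingle₀Equiv] using key

lemma ηN_app_f (F : CohTop.Ab X) : ((ηN U).app F).f 0 = Compare.augX U F.obj := by
  simp [ηN, CochainComplex.fromSingle₀Equiv]

lemma exists_augX_eq (hcov : iSup U = ⊤) (F : CohTop.Ab X) (x : (cx U F.obj).X 0)
    (hx : (cx U F.obj).d 0 1 x = 0) : ∃ s, Compare.augX U F.obj s = x := by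
  obtain ⟨s, hs⟩ := Sections.exists_aug_eq U F hcov (equiv U F.obj 0 x) (by
    rw [← equiv_d, hx, map_zero])
  exact ⟨s, (equiv U F.obj 0).injective (((equiv U F.obj 0).apply_symm_apply _).trans hs)⟩

lemma exists_d_eq (F : CohTop.Ab X) [Injective F] (p : ℕ) (x : (cx U F.obj).X (p + 1))
    (hx : (cx U F.obj).d (p + 1) (p + 1 + 1) x = 0) : ∃ y, (cx U F.obj).d p (p + 1) y = x := by
  obtain ⟨b, hb⟩ := Cech.Acyclic.exactSucc_of_injective U F p (equiv U F.obj (p + 1) x) (by
    rw [← equiv_d, hx, map_zero])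
  refine ⟨(equiv U F.obj p).symm b, (equiv U F.obj (p + 1)).injective ?_⟩
  rw [equiv_d, AddEquiv.apply_symm_apply, hb]

lemma quasiIso_ηN (hcov : iSup U = ⊤) (F : CohTop.Ab X) [Injective F] : QuasiIso ((ηN U).app F) := by
  refine ⟨fun p => ?_⟩
  rcases p with _ | p
  · rw [CochainComplex.quasiIsoAt₀_iff, ShortComplex.quasiIso_iff_of_zeros _ rfl
      (HomologicalComplex.single_obj_d (ComplexShape.up ℕ) _ _ _ _) ?_]
    swap; · exact HomologicalComplex.shape (cx U F.obj) 0 0 (Nat.succ_ne_zero 0)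
    refine ⟨?_, ?_⟩
    · rw [ShortComplex.ab_exact_iff]
      intro x hx
      obtain ⟨s, hs⟩ := exists_augX_eq U hcov F x hx
      exact ⟨s, (congrArg (fun φ => φ s) (ηN_app_f U F)).trans hs⟩
    · change Mono (((ηN U).app F).f 0)
      rw [ηN_app_f]
      exact (AddCommGrpCat.mono_iff_injective _).2 ((equiv U F.obj 0).symm.injective.comp
        (Sections.aug_injective U F hcov))
  · rw [quasiIsoAt_iff_exactAt ((ηN U).app F) (p + 1)
      (HomologicalComplex.exactAt_single_obj _ _ _ _ (by omega))]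
    rw [HomologicalComplex.exactAt_iff' _ p (p + 1) (p + 1 + 1) (by simp) (by simp),
      ShortComplex.ab_exact_iff]
    intro x hx
    exact exists_d_eq U F p x hx

/-- Global sections as complexes concentrated in degree zero. -/
noncomputable abbrev H₀ : CohTop.Ab X ⥤ CochainComplex AddCommGrpCat.{u} ℤ :=
  Γ₀ ⋙ CochainComplex.single₀ AddCommGrpCat.{u} ⋙
    ComplexShape.embeddingUpNat.extendFunctor AddCommGrpCat.{u}

/-- The augmentation, extended to `ℤ`. -/
noncomputable def η : H₀ (X := X) ⟶ G U where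
  app F := (ComplexShape.embeddingUpNat.extendFunctor AddCommGrpCat.{u}).map ((ηN U).app F)
  naturality F G φ := ((ComplexShape.embeddingUpNat.extendFunctor _).map_comp _ _).symm.trans
    ((congrArg _ ((ηN U).naturality φ)).trans ((ComplexShape.embeddingUpNat.extendFunctor _).map_comp _ _))

lemma quasiIso_η (hcov : iSup U = ⊤) (F : CohTop.Ab X) [Injective F] : QuasiIso ((η U).app F) :=
  (HomologicalComplex.quasiIso_extendMap_iff _ _).2 (quasiIso_ηN U hcov F)

lemma isZero_extend_neg (M : CochainComplex AddCommGrpCat.{u} ℕ) (q : ℤ) (hq : q < 0) :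
    IsZero ((M.extend ComplexShape.embeddingUpNat).X q) :=
  M.isZero_extend_X _ _ fun i => by simp; omega

lemma isZero_H₀ (F : CohTop.Ab X) (q : ℤ) (hq : q ≠ 0) : IsZero ((H₀.obj F).X q) := by
  by_cases h : q < 0
  · exact isZero_extend_neg _ q h
  · obtain ⟨p, rfl⟩ : ∃ p : ℕ, q = p := ⟨q.toNat, by omega⟩
    exact IsZero.of_iso (HomologicalComplex.isZero_single_obj_X _ _ _ _ (by omega))
      (HomologicalComplex.extendXIso _ _ (by simp : ComplexShape.embeddingUpNat.f p = (p : ℤ)))

/-- The term of degree zero. -/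
noncomputable def H₀XIso (F : CohTop.Ab X) : (H₀.obj F).X 0 ≅ Γ₀.obj F :=
  HomologicalComplex.extendXIso _ _ (by simp : ComplexShape.embeddingUpNat.f 0 = (0 : ℤ)) ≪≫
    HomologicalComplex.singleObjXSelf _ 0 _

lemma H₀XIso_naturality {F G : CohTop.Ab X} (φ : F ⟶ G) :
    (H₀XIso F).inv ≫ (H₀.map φ).f 0 = Γ₀.map φ ≫ (H₀XIso G).inv := by
  refine (Iso.inv_comp_eq _).2 ?_
  simp [H₀XIso, ComplexShape.Embedding.extendFunctor, HomologicalComplex.extendMap_f _ _
    (by simp : ComplexShape.embeddingUpNat.f 0 = (0 : ℤ))]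

variable (I : CochainComplex (CohTop.Ab X) ℤ)

/-- The complex of global sections, as a double complex. -/
noncomputable abbrev A : HomologicalComplex₂ AddCommGrpCat.{u} (ComplexShape.up ℤ) (ComplexShape.up ℤ) :=
  ((H₀ (X := X)).mapHomologicalComplex (ComplexShape.up ℤ)).obj I

/-- The inclusion in the double complex. -/
noncomputable def inA (n : ℤ) : Γ₀.obj (I.X n) ⟶ ((A I).X n).X 0 := (H₀XIso (I.X n)).inv

/-- The projection from the double complex. -/
noncomputable def outA (n : ℤ) : ((A I).X n).X 0 ⟶ Γ₀.obj (I.X n) := (H₀XIso (I.X n)).hom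

lemma inA_outA (n : ℤ) : inA I n ≫ outA I n = 𝟙 _ := (H₀XIso (I.X n)).inv_hom_id

lemma outA_inA (n : ℤ) : outA I n ≫ inA I n = 𝟙 _ := (H₀XIso (I.X n)).hom_inv_id

lemma inA_d (i j : ℤ) : inA I i ≫ ((A I).d i j).f 0 = Γ₀.map (I.d i j) ≫ inA I j :=
  H₀XIso_naturality (I.d i j)

/-- Inclusion of the line. -/
noncomputable def incl (n : ℤ) : Γ₀.obj (I.X n) ⟶ ((A I).total (ComplexShape.up ℤ)).X n :=
  inA I n ≫ (A I).ιTotal (ComplexShape.up ℤ) n 0 n (by simp)

/-- Projection to the line. -/
noncomputable def proj (n : ℤ) : ((A I).total (ComplexShape.up ℤ)).X n ⟶ Γ₀.obj (I.X n) :=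
  (A I).totalDesc fun p q h => if hq : q = 0 then
    ((A I).XXIsoOfEq _ _ _ (by simp at h; omega) hq).hom ≫ outA I n else 0

lemma incl_proj (n : ℤ) : incl I n ≫ proj I n = 𝟙 _ := by
  rw [incl, proj, Category.assoc, HomologicalComplex₂.ι_totalDesc, dif_pos rfl,
    HomologicalComplex₂.XXIsoOfEq_rfl, Iso.refl_hom, Category.id_comp, inA_outA]

lemma proj_incl (n : ℤ) : proj I n ≫ incl I n = 𝟙 _ := by
  refine HomologicalComplex₂.total.hom_ext _ fun p q h => ?_
  by_cases hq : q = 0
  · subst hq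
    obtain rfl : p = n := by simpa using h
    rw [proj, HomologicalComplex₂.ι_totalDesc_assoc, dif_pos rfl, Category.comp_id, incl,
      HomologicalComplex₂.XXIsoOfEq_rfl, Iso.refl_hom, Category.id_comp, ← Category.assoc,
      outA_inA, Category.id_comp]
  · exact (isZero_H₀ _ q hq).eq_of_src _ _

lemma incl_d (i j : ℤ) (hij : (ComplexShape.up ℤ).Rel i j) :
    incl I i ≫ ((A I).total (ComplexShape.up ℤ)).d i j = Γ₀.map (I.d i j) ≫ incl I j := by
  rw [incl, incl, Category.assoc, HomologicalComplex₂.total_d, Preadditive.comp_add,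
    HomologicalComplex₂.ι_D₁, HomologicalComplex₂.ι_D₂,
    HomologicalComplex₂.d₁_eq _ _ hij 0 j (by simpa using hij)]
  have h2 : (A I).d₂ (ComplexShape.up ℤ) i 0 j = 0 := by
    rw [HomologicalComplex₂.d₂_eq _ _ i (show (ComplexShape.up ℤ).Rel 0 1 by simp) j
      (by simpa using hij)]
    have e : ((A I).X i).d 0 1 = 0 := (isZero_H₀ (I.X i) 1 one_ne_zero).eq_of_tgt _ _
    rw [e, zero_comp, smul_zero]
  rw [h2, add_zero]
  simp only [ComplexShape.ε₁_def, one_smul]
  rw [← Category.assoc, inA_d, Category.assoc]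

/-- The total complex of a double complex concentrated in one line. -/
noncomputable def totalIso :
    (A I).total (ComplexShape.up ℤ) ≅ (Γ₀.mapHomologicalComplex (ComplexShape.up ℤ)).obj I :=
  (HomologicalComplex.Hom.isoOfComponents
    (fun n => { hom := incl I n, inv := proj I n, hom_inv_id := incl_proj I n,
                inv_hom_id := proj_incl I n })
    fun i j hij => incl_d I i j hij).symm

/-- Čech hypercohomology of a complex of injective sheaves. -/
theorem nonempty_hyperH_iso_injective (hcov : iSup U = ⊤) (a : ℤ) [I.IsStrictlyGE a]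
    [∀ k, Injective (I.X k)] (n : ℤ) :
    Nonempty (CechTot.hyperH U ((CechTot.presheafCx X).obj I) n ≅
      (((Γ₀ (X := X)).mapHomologicalComplex (ComplexShape.up ℤ)).obj I).homology n) := by
  let L : HomologicalComplex₂ AddCommGrpCat.{u} (ComplexShape.up ℤ) (ComplexShape.up ℤ) :=
    ((G U).mapHomologicalComplex (ComplexShape.up ℤ)).obj I
  let ψ : A I ⟶ L := (NatTrans.mapHomologicalComplex (η U) (ComplexShape.up ℤ)).app I
  let ψ' : (A I).flip ⟶ L.flip := (HomologicalComplex₂.flipFunctor _ _ _).map ψ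
  haveI : QuasiIso ψ' := quasiIso_of_eval ψ' fun k => by
    haveI := quasiIso_η U hcov (I.X k)
    exact inferInstanceAs (QuasiIso ((η U).app (I.X k)))
  have hz : ∀ {F : CohTop.Ab X ⥤ CochainComplex AddCommGrpCat.{u} ℤ} [F.PreservesZeroMorphisms]
      (p q : ℤ), q < a → IsZero (((((F.mapHomologicalComplex (ComplexShape.up ℤ)).obj I)).X q).X p) :=
    fun {F} _ p q hq => (HomologicalComplex.eval _ _ p).map_isZero
      (F.map_isZero (I.isZero_of_isStrictlyGE a q hq))
  haveI : QuasiIso (HomologicalComplex₂.total.map ψ' (ComplexShape.up ℤ)) :=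
    TotalQIso.Basic.quasiIso_map ψ' 0 a
      (fun p q h => h.elim (fun h => isZero_H₀ _ p (by omega)) (fun h => hz (F := H₀) p q h))
      (fun p q h => h.elim (fun h => isZero_extend_neg _ p h) (fun h => hz (F := G U) p q h))
  exact ⟨(HomologicalComplex.homologyFunctor _ _ n).mapIso (L.totalFlipIso (ComplexShape.up ℤ)).symm ≪≫
    (isoOfQuasiIsoAt (HomologicalComplex₂.total.map ψ' (ComplexShape.up ℤ)) n).symm ≪≫
    (HomologicalComplex.homologyFunctor _ _ n).mapIso
      ((A I).totalFlipIso (ComplexShape.up ℤ) ≪≫ totalIso I)⟩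

/-- Čech hypercohomology computes hypercohomology. -/
theorem nonempty_hyperH_addEquiv [HasDerivedCategory.{u} (CohTop.Ab X)] (hcov : iSup U = ⊤)
    (K : CochainComplex (CohTop.Ab X) ℤ) (a : ℤ) (ha : ∀ i : ℤ, i < a → IsZero (K.X i))
    (h : ∀ (p : ℕ) (c : Fin (p + 1) → ι) (k : ℤ), Acyc (inter U c) (K.X k)) (n : ℤ) :
    Nonempty (↑(CechTot.hyperH U ((CechTot.presheafCx X).obj K) n) ≃+
      CohCx.HDU (DerivedCategory.Q.obj K) n (⊤ : Opens X)) := by
  haveI : K.IsStrictlyGE a := (CochainComplex.isStrictlyGE_iff K a).2 ha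
  obtain ⟨I, g, hg, hinj, hI⟩ :=
    CochainComplex.Plus.modelCategoryQuillen.exists_quasiIso_injective K a
  haveI := hI
  haveI := hg
  haveI : ∀ n, Injective (I.X n) := hinj
  haveI := CochainComplex.isKInjective_of_injective I a
  haveI := quasiIso_map_G U g a h fun p c k => acyc_injective _ _
  let φ := ((G U).mapHomologicalComplex (ComplexShape.up ℤ)).map g
  have hz : ∀ (M : CochainComplex (CohTop.Ab X) ℤ) [M.IsStrictlyGE a] (q p : ℤ), q < a ∨ p < 0 →
      IsZero ((((((G U).mapHomologicalComplex (ComplexShape.up ℤ)).obj M)).X q).X p) :=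
    fun M _ q p h => h.elim (fun h => (HomologicalComplex.eval _ _ p).map_isZero
      ((G U).map_isZero (M.isZero_of_isStrictlyGE a q h))) (fun h => isZero_extend_neg _ p h)
  haveI : QuasiIso (HomologicalComplex₂.total.map φ (ComplexShape.up ℤ)) :=
    TotalQIso.Basic.quasiIso_map φ a 0 (hz K) (hz I)
  obtain ⟨e⟩ := nonempty_hyperH_iso_injective U I hcov a n
  exact ⟨((isoOfQuasiIsoAt (HomologicalComplex₂.total.map φ (ComplexShape.up ℤ)) n ≪≫ e ≪≫
    ((H30.DHom.secCx I).sc n).mapHomologyIso ((evaluation (Opens X)ᵒᵖ AddCommGrpCat.{u}).obj (op ⊤)) ≪≫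
    (H30.CechHyper.hduIso g n).app (op ⊤))).addCommGroupIsoToAddEquiv⟩

end Groth.Agent.Lib.CechHyper28.Compare
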